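import Groth.Agent.S1236
import Groth.Agent.Lib.WeakAssBC4
import Mathlib.RingTheory.IsTensorProduct
import Mathlib.RingTheory.Flat.Stability
import Mathlib.RingTheory.Flat.Localization
import Mathlib.RingTheory.Ideal.GoingDown
import Mathlib.RingTheory.Localization.Module
import Mathlib.LinearAlgebra.FreeModule.Basic

/-!
Weakly associated primes descend along field extensions.
-/

set_option autoImplicit false
set_option maxHeartbeats 1600000
universe u

open TensorProduct

namespace Groth.Agent.WeakAssField26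

open H2Alg

/-- Weakly associated primes descend along flat maps at elements coming from below. -/
theorem weakAss_comap_of_flat {T S : Type u} [CommRing T] [CommRing S] [Algebra T S] [Module.Flat T S]
    {N : Type u} [AddCommGroup N] [Module T N] (n : N) (q : Ideal S) [q.IsPrime]
    (hq : q ∈ (annEl S ((1 : S) ⊗ₜ[T] n)).minimalPrimes) :
    q.comap (algebraMap T S) ∈ (annEl T n).minimalPrimes := by
  have hup : ∀ b ∈ annEl T n, algebraMap T S b ∈ annEl S ((1 : S) ⊗ₜ[T] n) := fun b hb => by
    rw [mem_annEl, algebraMap_smul, ← TensorProduct.tmul_smul, mem_annEl.1 hb, TensorProduct.tmul_zero]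
  refine ⟨⟨inferInstance, fun b hb => Ideal.mem_comap.2 (hq.1.2 (hup b hb))⟩, fun P hP hle => ?_⟩
  haveI := hP.1
  haveI : q.LiesOver (q.comap (algebraMap T S)) := ⟨rfl⟩
  obtain ⟨Q, hQq, hQ, hQP⟩ := Ideal.exists_ideal_le_liesOver_of_le (R := T) q hle
  have hann : annEl S ((1 : S) ⊗ₜ[T] n) ≤ Q := by
    refine (WeakAssBC4.annEl_one_tmul_le n).trans (Ideal.map_le_iff_le_comap.2 fun b hb => ?_)
    have := hP.2 hb
    rwa [hQP.over] at this
  have : q ≤ Q := hq.2 ⟨hQ, hann⟩ hQq
  rw [hQP.over]
  exact Ideal.comap_mono this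

variable {k K R : Type u} [Field k] [Field K] [Algebra k K] [CommRing R] [Algebra k R]

/-- Weakly associated primes descend along a field extension. -/
theorem comap_mem_weakAss (RK : Type u) [CommRing RK] [Algebra k RK] [Algebra K RK] [Algebra R RK]
    [IsScalarTower k K RK] [IsScalarTower k R RK] [Algebra.IsPushout k K R RK] (M : Type u) [AddCommGroup M]
    [Module R M] (MK : Type u) [AddCommGroup MK] [Module RK MK] [Module R MK] [IsScalarTower R RK MK]
    (f : M →ₗ[R] MK) (hf : IsBaseChange RK f) (q : Ideal RK) [q.IsPrime] (hq : q ∈ FlatCA.weakAss RK MK) :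
    q.comap (algebraMap R RK) ∈ FlatCA.weakAss R M := by
  classical
  obtain ⟨z, hz⟩ := hq
  -- the element lives over a finitely generated subalgebra
  have hK : Algebra.IsPushout k K R RK := inferInstance
  have key : ∀ b : RK, ∃ s : Finset K, ∀ A : Subalgebra k K, (↑s : Set K) ⊆ A →
      b ∈ (Algebra.TensorProduct.lift ((IsScalarTower.toAlgHom k K RK).comp A.val)
        (IsScalarTower.toAlgHom k R RK) fun _ _ => Commute.all _ _).range := by
    intro b
    refine hK.out.inductionOn b (motive := fun b => ∃ s : Finset K, ∀ A : Subalgebra k K, (↑s : Set K) ⊆ A →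
      b ∈ (Algebra.TensorProduct.lift ((IsScalarTower.toAlgHom k K RK).comp A.val)
        (IsScalarTower.toAlgHom k R RK) fun _ _ => Commute.all _ _).range) ?_ ?_ ?_ ?_
    · exact ⟨∅, fun A _ => Subalgebra.zero_mem _⟩
    · intro r
      exact ⟨∅, fun A _ => ⟨(1 : A) ⊗ₜ r, by simp⟩⟩
    · rintro c b ⟨s, hs⟩
      refine ⟨insert c s, fun A hA => ?_⟩
      rw [Finset.coe_insert, Set.insert_subset_iff] at hA
      rw [Algebra.smul_def]
      exact Subalgebra.mul_mem _ ⟨(⟨c, hA.1⟩ : A) ⊗ₜ 1, by simp⟩ (hs A hA.2)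
    · rintro b b' ⟨s, hs⟩ ⟨s', hs'⟩
      refine ⟨s ∪ s', fun A hA => ?_⟩
      rw [Finset.coe_union, Set.union_subset_iff] at hA
      exact Subalgebra.add_mem _ (hs A hA.1) (hs' A hA.2)
  have key2 : ∀ y : MK, ∃ s : Finset K, ∀ A : Subalgebra k K, (↑s : Set K) ⊆ A →
      ∃ l : List ((A ⊗[k] R) × M), y = (l.map fun p =>
        (Algebra.TensorProduct.lift ((IsScalarTower.toAlgHom k K RK).comp A.val)
          (IsScalarTower.toAlgHom k R RK) fun _ _ => Commute.all _ _) p.1 • f p.2).sum := by
    intro y
    refine hf.inductionOn y (motive := fun y => ∃ s : Finset K, ∀ A : Subalgebra k K, (↑s : Set K) ⊆ A →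
      ∃ l : List ((A ⊗[k] R) × M), y = (l.map fun p =>
        (Algebra.TensorProduct.lift ((IsScalarTower.toAlgHom k K RK).comp A.val)
          (IsScalarTower.toAlgHom k R RK) fun _ _ => Commute.all _ _) p.1 • f p.2).sum) ?_ ?_ ?_ ?_
    · exact ⟨∅, fun A _ => ⟨[], by simp⟩⟩
    · intro m
      exact ⟨∅, fun A _ => ⟨[(1, m)], by simp⟩⟩
    · rintro b y ⟨s, hs⟩
      obtain ⟨s', hs'⟩ := key b
      refine ⟨s ∪ s', fun A hA => ?_⟩
      rw [Finset.coe_union, Set.union_subset_iff] at hA
      obtain ⟨l, rfl⟩ := hs A hA.1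
      obtain ⟨t, rfl⟩ := hs' A hA.2
      refine ⟨l.map fun p => (t * p.1, p.2), ?_⟩
      rw [List.smul_sum, List.map_map, List.map_map]
      congr 1
      refine List.map_congr_left fun p _ => ?_
      simp [mul_smul]
    · rintro y y' ⟨s, hs⟩ ⟨s', hs'⟩
      refine ⟨s ∪ s', fun A hA => ?_⟩
      rw [Finset.coe_union, Set.union_subset_iff] at hA
      obtain ⟨l, rfl⟩ := hs A hA.1
      obtain ⟨l', rfl⟩ := hs' A hA.2
      exact ⟨l ++ l', by simp⟩
  obtain ⟨s, hs⟩ := key2 z
  let A := Algebra.adjoin k (↑s : Set K)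
  obtain ⟨l, hl⟩ := hs A Algebra.subset_adjoin
  haveI : Algebra.FiniteType k A := (Subalgebra.fg_iff_finiteType _).mp (Subalgebra.fg_adjoin_finset s)
  -- the ring over the subalgebra
  let T := A ⊗[k] R
  letI : Algebra R T := Algebra.TensorProduct.rightAlgebra
  let φ : T →ₐ[k] RK := Algebra.TensorProduct.lift ((IsScalarTower.toAlgHom k K RK).comp A.val)
        (IsScalarTower.toAlgHom k R RK) fun _ _ => Commute.all _ _
  letI : Algebra T RK := φ.toRingHom.toAlgebra
  haveI : IsScalarTower A T RK := IsScalarTower.of_algebraMap_eq (R := A) (S := T) (A := RK) fun (a : A) => by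
    change algebraMap K RK (a : K) = φ (a ⊗ₜ 1)
    simp only [φ]
    erw [Algebra.TensorProduct.lift_tmul]
    simp
  haveI : IsScalarTower R T RK := IsScalarTower.of_algebraMap_eq fun r => by
    change algebraMap R RK r = φ (1 ⊗ₜ r)
    simp only [φ]
    erw [Algebra.TensorProduct.lift_tmul]
    simp
  haveI : IsScalarTower k T RK := IsScalarTower.of_algebraMap_eq fun c => (φ.commutes c).symm
  haveI : IsScalarTower k R T := IsScalarTower.of_algebraMap_eq fun c => by
    change algebraMap k T c = (1 : A) ⊗ₜ algebraMap k R c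
    rw [Algebra.TensorProduct.algebraMap_apply, Algebra.algebraMap_eq_smul_one, Algebra.algebraMap_eq_smul_one,
      TensorProduct.smul_tmul]
  haveI : Algebra.IsPushout k A R T := inferInstance
  haveI : Algebra.IsPushout k R A T := Algebra.IsPushout.symm inferInstance
  haveI : Algebra.IsPushout A K T RK :=
    (Algebra.IsPushout.comp_iff (R := k) (S := A) (R' := R) (S' := T) (T := K) (T' := RK)).mp hK
  haveI : Module.Flat A K := by
    letI : Algebra (FractionRing A) K := FractionRing.liftAlgebra A K
    haveI : Module.Free (FractionRing A) K := Module.Free.of_divisionRing (FractionRing A) K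
    haveI : Module.Flat (FractionRing A) K := Module.Flat.of_free
    exact Module.Flat.trans A (FractionRing A) K
  haveI : Module.Flat T RK :=
    Module.Flat.isBaseChange A T K RK (Algebra.IsPushout.out (R := A) (S := T) (R' := K) (S' := RK)
      (self := Algebra.IsPushout.symm inferInstance))
  haveI : Module.Flat R T :=
    Module.Flat.isBaseChange k R A T (Algebra.IsPushout.out (R := k) (S := R) (R' := A) (S' := T))
  haveI : Algebra.FiniteType R T := Algebra.FiniteType.equiv (inferInstanceAs (Algebra.FiniteType R (R ⊗[k] A)))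
    { Algebra.TensorProduct.comm k R A with
      commutes' := fun r => by
        change Algebra.TensorProduct.comm k R A (r ⊗ₜ 1) = (1 : A) ⊗ₜ r
        simp }
  -- the element over the subalgebra
  let n : T ⊗[R] M := (l.map fun p => p.1 ⊗ₜ[R] p.2).sum
  let e : RK ⊗[T] (T ⊗[R] M) ≃ₗ[RK] MK :=
    (TensorProduct.AlgebraTensorModule.cancelBaseChange R T RK RK M).trans hf.equiv
  have he : ∀ (t : T) (m : M), e ((1 : RK) ⊗ₜ[T] (t ⊗ₜ[R] m)) = algebraMap T RK t • f m := by
    intro t m
    simp only [e, LinearEquiv.trans_apply, TensorProduct.AlgebraTensorModule.cancelBaseChange_tmul,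
      IsBaseChange.equiv_tmul, Algebra.smul_def, mul_one]
  have hn : e ((1 : RK) ⊗ₜ[T] n) = z := by
    rw [hl]
    simp only [n]
    clear hl
    induction l with
    | nil => simp
    | cons p l ih =>
      simp only [List.map_cons, List.sum_cons, TensorProduct.tmul_add, map_add, ih, he]
      rfl
  have hann : annEl RK ((1 : RK) ⊗ₜ[T] n) = annEl RK z := by
    ext b
    rw [mem_annEl, mem_annEl, ← hn, ← map_smul, map_eq_zero_iff _ e.injective]
  have hz' : q ∈ (annEl RK ((1 : RK) ⊗ₜ[T] n)).minimalPrimes := by rw [hann]; exact hz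
  have hqT : q.comap (algebraMap T RK) ∈ FlatCA.weakAss T (T ⊗[R] M) := ⟨n, weakAss_comap_of_flat n q hz'⟩
  have hp : q.comap (algebraMap R RK) = (q.comap (algebraMap T RK)).comap (algebraMap R T) := by
    rw [Ideal.comap_comap, ← IsScalarTower.algebraMap_eq]
  haveI : (q.comap (algebraMap T RK)).LiesOver (q.comap (algebraMap R RK)) := ⟨hp⟩
  refine ((S1236.result T M (q.comap (algebraMap R RK)) (q.comap (algebraMap T RK)) ?_).mp hqT).1
  unfold FlatCA.FlatAt
  haveI : Module.Flat R (Localization (q.comap (algebraMap T RK)).primeCompl) := Module.Flat.trans R T _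
  exact inferInstanceAs (Module.Flat R (Localization (q.comap (algebraMap T RK)).primeCompl))

end Groth.Agent.WeakAssField26
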